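import Cfsg.Agent.H160.BL.Mem
import Cfsg.Agent.H160.BL.EvenB

/-!
# Four members of the principal 7-block of the Baby Monster (helper160)

`members` : the irreducible characters `1`, `96255`, `9550635`, `4275362520` (and `9287037474`) of the Baby Monster are in
the principal 7-block.
-/

set_option autoImplicit false
set_option linter.constructorNameAsVariable false
set_option linter.unusedSectionVars false

namespace Cfsg.Agent.H160.BL

open Cfsg Cfsg.Agent.Characters Cfsg.Agent.Characters.Core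
open Cfsg.Agent.BabyM.Model Cfsg.Agent.BabyM.Inst Cfsg.Agent.H995.BSch Cfsg.Agent.H995.BSchVal
  Cfsg.Agent.H877.BSgn Cfsg.Agent.H816.IMEig Cfsg.Agent.H816.IMEig.Col Cfsg.Agent.H816.BT.Sgn
  Cfsg.Agent.H816.BT.Abs Cfsg.Agent.H816.BT.Ops Cfsg.Agent.H816.BT.Pw Cfsg.Agent.H816.BT.Sch
  Cfsg.Agent.H816.BT.Even Cfsg.Agent.H816.BT.Main Cfsg.Agent.H816.BT.Two Cfsg.Agent.H160.BL.EvenB
open scoped BigOperators ComplexConjugate

universe u

def qe4 : Fin 8 → ℚ := ![1, 1, 43/88179, 43/88179, -31/2315264, -31/2315264, -7/40128, 47/15519504]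

def qe5 : Fin 8 → ℚ := ![1, 1, -1/4199, -1/4199, 1/165376, 1/165376, 1/13376, -1/739024]

theorem datE4 : Dat 1935 e4 qe4 4275362520 (17250 / 2717) where
  eig := eig_e4
  rat u := by fin_cases u <;> simp [e4, qe4]
  sum := by decide +kernel
  deg := by norm_num

theorem datE5 : Dat (-945) e5 qe5 9287037474 (135000 / 46189) where
  eig := eig_e5
  rat u := by fin_cases u <;> simp [e5, qe5]
  sum := by decide +kernel
  deg := by norm_num

theorem t_e4 (x : X0 M) : ch e4 (tX x) = 10237656 := by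
  rw [ch_t datE4 x (v := 10237656) (by decide +kernel)]; norm_num

theorem t_e5 (x : X0 M) : ch e5 (tX x) = 16720418 := by
  rw [ch_t datE5 x (v := 16720418) (by decide +kernel)]; norm_num

theorem mem_e4 {I : Ideal AlgInt} (hI : IsPModular 7 I) :
    (⟨ch e4, ch_irr datE4⟩ : IrrCharacter ↥M.G) ∈ principalBlock I ↥M.G :=
  mem_of_mod hI (n := 4275362520) (a := 10237656) (by show ch e4 1 = _; rw [ch_one datE4]; norm_num)
    (fun x => by show ch e4 (tX x) = _; rw [t_e4]; norm_num) (by norm_num) (by norm_num)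

theorem mem_e5 {I : Ideal AlgInt} (hI : IsPModular 7 I) :
    (⟨ch e5, ch_irr datE5⟩ : IrrCharacter ↥M.G) ∈ principalBlock I ↥M.G :=
  mem_of_mod hI (n := 9287037474) (a := 16720418) (by show ch e5 1 = _; rw [ch_one datE5]; norm_num)
    (fun x => by show ch e5 (tX x) = _; rw [t_e5]; norm_num) (by norm_num) (by norm_num)

/-- **Members of the principal 7-block of the Baby Monster.** -/
theorem members {S : Type u} [Group S] (h : Spor.IsoB S) {I : Ideal AlgInt} (hI : IsPModular 7 I) :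
    ∃ i₀ ψ χ₂ χ₃ α χ₄ χ₅ : IrrCharacter S,
    (i₀ : S → ℂ) = (fun _ => 1) ∧
    (ψ : S → ℂ) 1 = 4371 ∧ (χ₂ : S → ℂ) 1 = 96255 ∧ (χ₃ : S → ℂ) 1 = 9458750 ∧ (α : S → ℂ) 1 = 9550635 ∧
    (χ₄ : S → ℂ) 1 = 4275362520 ∧ (χ₅ : S → ℂ) 1 = 9287037474 ∧
    (∀ g, ∃ q : ℚ, (ψ : S → ℂ) g = q) ∧ (∀ g, ∃ q : ℚ, (χ₂ : S → ℂ) g = q) ∧ (∀ g, ∃ q : ℚ, (χ₃ : S → ℂ) g = q) ∧
    (∀ g, ∃ q : ℚ, (α : S → ℂ) g = q) ∧ (∀ g, ∃ q : ℚ, (χ₄ : S → ℂ) g = q) ∧ (∀ g, ∃ q : ℚ, (χ₅ : S → ℂ) g = q) ∧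
    (∀ g, ((ψ : S → ℂ) g ^ 2 + (ψ : S → ℂ) (g * g)) / 2 = 1 + (χ₂ : S → ℂ) g + (χ₃ : S → ℂ) g) ∧
    (∀ g, ((ψ : S → ℂ) g ^ 2 - (ψ : S → ℂ) (g * g)) / 2 = (α : S → ℂ) g) ∧
    i₀ ∈ principalBlock I S ∧ χ₂ ∈ principalBlock I S ∧ α ∈ principalBlock I S ∧ χ₄ ∈ principalBlock I S ∧
    χ₅ ∈ principalBlock I S := by
  obtain ⟨f⟩ : Nonempty (S ≃* ↥M.G) := by
    obtain ⟨e⟩ := h
    exact ⟨e.trans Cfsg.Agent.BM.KHAll.iso⟩
  have hfin : Finite S := Finite.of_equiv _ f.symm.toEquiv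
  have := Blocks.Local.isPrime_of_isPModular hI
  have m0 : (⟨fun _ => 1, Blocks.Basic.isIrrCharacter_one⟩ : IrrCharacter S) ∈ principalBlock I S :=
    Blocks.Basic.mem_blockOf_self (⟨fun _ => 1, Blocks.Basic.isIrrCharacter_one⟩ : IrrCharacter S)
  have m2 := H493.RatB.mem_principalBlock_comp f (mem_e2 hI)
  have ma := H493.RatB.mem_principalBlock_comp f (mem_al hI)
  have m4 := H493.RatB.mem_principalBlock_comp f (mem_e4 hI)
  have m5 := H493.RatB.mem_principalBlock_comp f (mem_e5 hI)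
  have hsym : ∀ g : S, ((ch v0 (f g)) ^ 2 + ch v0 (f (g * g))) / 2 = 1 + ch e2 (f g) + ch e3 (f g) := by
    intro g
    rw [map_mul]
    exact sym2 (f g)
  have halt : ∀ g : S, ((ch v0 (f g)) ^ 2 - ch v0 (f (g * g))) / 2 = al2 (f g) := by
    intro g
    rw [map_mul]
    rfl
  refine ⟨⟨fun _ => 1, Blocks.Basic.isIrrCharacter_one⟩,
    ⟨_, isIrr_comp (f : S →* ↥M.G) f.surjective (ch_irr dat0)⟩,
    ⟨_, isIrr_comp (f : S →* ↥M.G) f.surjective (ch_irr datE2)⟩,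
    ⟨_, isIrr_comp (f : S →* ↥M.G) f.surjective (ch_irr datE3)⟩,
    ⟨_, isIrr_comp (f : S →* ↥M.G) f.surjective irrAl⟩,
    ⟨_, isIrr_comp (f : S →* ↥M.G) f.surjective (ch_irr datE4)⟩,
    ⟨_, isIrr_comp (f : S →* ↥M.G) f.surjective (ch_irr datE5)⟩, rfl, ?_, ?_, ?_, ?_, ?_, ?_, ?_, ?_, ?_,
    ?_, ?_, ?_, hsym, halt, m0, m2, ma, m4, m5⟩
  · show ch v0 (f 1) = _
    rw [map_one, ch_one dat0]; norm_num
  · show ch e2 (f 1) = _
    rw [map_one, ch_one datE2]; norm_num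
  · show ch e3 (f 1) = _
    rw [map_one, ch_one datE3]; norm_num
  · show al2 (f 1) = _
    rw [map_one, al2_one]
  · show ch e4 (f 1) = _
    rw [map_one, ch_one datE4]; norm_num
  · show ch e5 (f 1) = _
    rw [map_one, ch_one datE5]; norm_num
  · exact fun g => ⟨_, ch_eq dat0 (f g)⟩
  · exact fun g => ⟨_, ch_eq datE2 (f g)⟩
  · exact fun g => ⟨_, ch_eq datE3 (f g)⟩
  · intro g
    show ∃ q : ℚ, al2 (f g) = q
    obtain ⟨a, ha⟩ : ∃ q : ℚ, ch v0 (f g) = q := ⟨_, ch_eq dat0 (f g)⟩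
    obtain ⟨b, hb⟩ : ∃ q : ℚ, ch v0 (f (g * g)) = q := ⟨_, ch_eq dat0 (f (g * g))⟩
    refine ⟨(a ^ 2 - b) / 2, ?_⟩
    rw [← halt, ha, hb]
    push_cast
    ring
  · exact fun g => ⟨_, ch_eq datE4 (f g)⟩
  · exact fun g => ⟨_, ch_eq datE5 (f g)⟩

end Cfsg.Agent.H160.BL
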