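import Cfsg.Agent.H816.BT.Two
import Cfsg.Agent.H436.B7
import Cfsg.Agent.H185.AR.F

/-!
# Members of the principal 7-block of the Baby Monster (helper160)

`P` a Sylow 7-subgroup of the Baby Monster: `C(P) = P × ⟨t₁, t₂⟩`, where `t₁, t₂` are commuting transpositions.

* `mem_of_mod` : an irreducible character `χ` with `7 ∤ χ(1)`, `χ(t) ≡ χ(1)` modulo 7 for the transpositions `t`, is in the
  principal 7-block;
* `mem_chi2`, `mem_alpha` : the characters of degrees `96255`, `9550635` are in the principal 7-block.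
-/

set_option autoImplicit false
set_option linter.constructorNameAsVariable false
set_option linter.unusedSectionVars false

namespace Cfsg.Agent.H160.BL

open Cfsg Cfsg.Agent.Characters Cfsg.Agent.Characters.Core
open Cfsg.Agent.BabyM.Model Cfsg.Agent.BabyM.Inst Cfsg.Agent.H995.BSch Cfsg.Agent.H995.BSchVal
  Cfsg.Agent.H877.BSgn Cfsg.Agent.H816.IMEig Cfsg.Agent.H816.IMEig.Col Cfsg.Agent.H816.BT.Sgn
  Cfsg.Agent.H816.BT.Abs Cfsg.Agent.H816.BT.Ops Cfsg.Agent.H816.BT.Pw Cfsg.Agent.H816.BT.Sch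
  Cfsg.Agent.H816.BT.Even Cfsg.Agent.H816.BT.Main Cfsg.Agent.H816.BT.Two
open Cfsg.Agent.H185.AR
open Subgroup (centralizer mem_centralizer_singleton_iff mem_centralizer_iff)
open scoped BigOperators ComplexConjugate

universe u

/-! ### The 7-regular elements of `C(P)` -/

section abs

variable {L : Type u} [Group L]

/-- the four-group `{1, a, b, a b}` -/
def four (a b : L) (ha2 : a * a = 1) (hb2 : b * b = 1) (hc : a * b = b * a) : Subgroup L where
  carrier := {y | y = 1 ∨ y = a ∨ y = b ∨ y = a * b}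
  one_mem' := Or.inl rfl
  mul_mem' := by
    have h1 : a * (a * b) = b := by rw [← mul_assoc, ha2, one_mul]
    have h2 : b * (a * b) = a := by rw [hc, ← mul_assoc, hb2, one_mul]
    have h3 : a * b * a = b := by rw [hc, mul_assoc, ha2, mul_one]
    have h4 : a * b * b = a := by rw [mul_assoc, hb2, mul_one]
    have h5 : a * b * (a * b) = 1 := by rw [mul_assoc, h2, ha2]
    rintro x y (rfl | rfl | rfl | rfl) (rfl | rfl | rfl | rfl)
    · exact Or.inl (mul_one _)
    · exact Or.inr (Or.inl (one_mul _))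
    · exact Or.inr (Or.inr (Or.inl (one_mul _)))
    · exact Or.inr (Or.inr (Or.inr (one_mul _)))
    · exact Or.inr (Or.inl (mul_one _))
    · exact Or.inl ha2
    · exact Or.inr (Or.inr (Or.inr rfl))
    · exact Or.inr (Or.inr (Or.inl h1))
    · exact Or.inr (Or.inr (Or.inl (mul_one _)))
    · exact Or.inr (Or.inr (Or.inr hc.symm))
    · exact Or.inl hb2
    · exact Or.inr (Or.inl h2)
    · exact Or.inr (Or.inr (Or.inr (mul_one _)))
    · exact Or.inr (Or.inr (Or.inl h3))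
    · exact Or.inr (Or.inl h4)
    · exact Or.inl h5
  inv_mem' := by
    have h2 : b * (a * b) = a := by rw [hc, ← mul_assoc, hb2, one_mul]
    have h5 : a * b * (a * b) = 1 := by rw [mul_assoc, h2, ha2]
    rintro x (rfl | rfl | rfl | rfl)
    · exact Or.inl inv_one
    · exact Or.inr (Or.inl (inv_eq_of_mul_eq_one_left ha2))
    · exact Or.inr (Or.inr (Or.inl (inv_eq_of_mul_eq_one_left hb2)))
    · exact Or.inr (Or.inr (Or.inr (inv_eq_of_mul_eq_one_left h5)))

variable {a b : L} {ha2 : a * a = 1} {hb2 : b * b = 1} {hc : a * b = b * a}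

theorem mem_four {y : L} : y ∈ four a b ha2 hb2 hc ↔ y = 1 ∨ y = a ∨ y = b ∨ y = a * b := Iff.rfl

/-- the parametrization of the four-group -/
def par4 (a b : L) (ha2 : a * a = 1) (hb2 : b * b = 1) (hc : a * b = b * a) : Fin 4 → four a b ha2 hb2 hc :=
  ![⟨1, Or.inl rfl⟩, ⟨a, Or.inr (Or.inl rfl)⟩, ⟨b, Or.inr (Or.inr (Or.inl rfl))⟩,
    ⟨a * b, Or.inr (Or.inr (Or.inr rfl))⟩]

theorem par4_bij (ha1 : a ≠ 1) (hb1 : b ≠ 1) (hab : a ≠ b) : Function.Bijective (par4 a b ha2 hb2 hc) := by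
  have h1 : a * b ≠ 1 := by
    intro h
    apply hab
    calc a = a * (b * b) := by rw [hb2, mul_one]
      _ = a * b * b := by rw [mul_assoc]
      _ = b := by rw [h, one_mul]
  have h2 : a * b ≠ a := fun h => hb1 (mul_eq_left.1 h)
  have h3 : a * b ≠ b := fun h => ha1 (mul_eq_right.1 h)
  constructor
  · intro i j hij
    have h := congrArg Subtype.val hij
    fin_cases i <;> fin_cases j <;>
      first
        | rfl
        | exact absurd h.symm ha1
        | exact absurd h.symm hb1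
        | exact absurd h.symm h1
        | exact absurd h ha1
        | exact absurd h hb1
        | exact absurd h h1
        | exact absurd h hab
        | exact absurd h.symm hab
        | exact absurd h h2
        | exact absurd h.symm h2
        | exact absurd h h3
        | exact absurd h.symm h3
  · rintro ⟨y, hy⟩
    rcases hy with rfl | rfl | rfl | rfl
    · exact ⟨0, rfl⟩
    · exact ⟨1, rfl⟩
    · exact ⟨2, rfl⟩
    · exact ⟨3, rfl⟩

theorem card_four (ha1 : a ≠ 1) (hb1 : b ≠ 1) (hab : a ≠ b) : Nat.card (four a b ha2 hb2 hc) = 4 := by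
  rw [← Nat.card_congr (Equiv.ofBijective _ (par4_bij (ha2 := ha2) (hb2 := hb2) (hc := hc) ha1 hb1 hab)),
    Nat.card_fin]

theorem sum_four (ha1 : a ≠ 1) (hb1 : b ≠ 1) (hab : a ≠ b) [Fintype (four a b ha2 hb2 hc)] (χ : L → ℂ) :
    ∑ y : four a b ha2 hb2 hc, χ y = χ 1 + χ a + χ b + χ (a * b) := by
  rw [← Function.Bijective.sum_comp (par4_bij (ha2 := ha2) (hb2 := hb2) (hc := hc) ha1 hb1 hab)
    (fun y : four a b ha2 hb2 hc => χ y), Fin.sum_univ_four]
  rfl

variable [Finite L]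

/-- the 7-regular elements of `C(P)` -/
theorem op_four {P : Subgroup L} (hP : Nat.card P = 49) (hC : Nat.card ↥(centralizer (P : Set L)) ∣ 4 * 49)
    (ha : a ∈ centralizer (P : Set L)) (hb : b ∈ centralizer (P : Set L)) (ha1 : a ≠ 1) (hb1 : b ≠ 1) (hab : a ≠ b) :
    OP 7 P (four a b ha2 hb2 hc) := by
  have h7 : Fact (Nat.Prime 7) := ⟨by norm_num⟩
  have h4 := card_four (ha2 := ha2) (hb2 := hb2) (hc := hc) ha1 hb1 hab
  have hle : four a b ha2 hb2 hc ≤ centralizer (P : Set L) := by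
    rintro y (rfl | rfl | rfl | rfl)
    · exact one_mem _
    · exact ha
    · exact hb
    · exact mul_mem ha hb
  have hcomm : ∀ u ∈ P, ∀ v ∈ P, u * v = v * u := by
    intro u hu v hv
    have h1 : IsMulCommutative P := IsPGroup.isMulCommutative_of_card_eq_prime_sq (p := 7) (by rw [hP]; norm_num)
    exact congrArg Subtype.val (h1.is_comm.comm (⟨u, hu⟩ : P) ⟨v, hv⟩)
  have hPle : P ≤ centralizer (P : Set L) := fun u hu => mem_centralizer_iff.2 fun v hv => hcomm v hv u hu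
  have p49 : ∀ u ∈ P, u ^ 49 = 1 := by
    intro u hu
    have h1 : (⟨u, hu⟩ : P) ^ Nat.card P = 1 := pow_card_eq_one'
    rw [hP] at h1
    exact congrArg Subtype.val h1
  have p4 : ∀ u ∈ four a b ha2 hb2 hc, u ^ 4 = 1 := by
    intro u hu
    have h1 : (⟨u, hu⟩ : four a b ha2 hb2 hc) ^ Nat.card (four a b ha2 hb2 hc) = 1 := pow_card_eq_one'
    rw [h4] at h1
    exact congrArg Subtype.val h1
  have hcop : ∀ u : L, u ^ 49 = 1 → u ^ 4 = 1 → u = 1 := by
    intro u h1 h2
    have h3 := Nat.dvd_gcd (orderOf_dvd_of_pow_eq_one h1) (orderOf_dvd_of_pow_eq_one h2)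
    rw [show Nat.gcd 49 4 = 1 by norm_num, Nat.dvd_one, orderOf_eq_one_iff] at h3
    exact h3
  refine ⟨hle, by rw [h4]; norm_num, ?_⟩
  intro x hx hx7
  -- the product map
  let f : P × four a b ha2 hb2 hc → centralizer (P : Set L) := fun q =>
    ⟨(q.1 : L) * q.2, mul_mem (hPle q.1.2) (hle q.2.2)⟩
  have hf : Function.Injective f := by
    rintro ⟨u, v⟩ ⟨u', v'⟩ h
    have h1 : (u : L) * v = u' * v' := congrArg Subtype.val h
    have h2 : (u' : L)⁻¹ * u = v' * (v : L)⁻¹ := by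
      rw [eq_mul_inv_iff_mul_eq, mul_assoc, h1, inv_mul_cancel_left]
    have h3 : (u' : L)⁻¹ * u = 1 := by
      refine hcop _ (p49 _ (P.mul_mem (P.inv_mem u'.2) u.2)) ?_
      rw [h2]
      exact p4 _ (mul_mem v'.2 (inv_mem v.2))
    have h4 : v' * (v : L)⁻¹ = 1 := by rw [← h2]; exact h3
    have h5 : (u : L) = u' := (inv_mul_eq_one.1 h3).symm
    have h6 : (v : L) = v' := (mul_inv_eq_one.1 h4).symm
    exact Prod.ext (Subtype.ext h5) (Subtype.ext h6)
  have hcard : Nat.card (P × four a b ha2 hb2 hc) = 4 * 49 := by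
    rw [Nat.card_prod, hP, h4]
  have hbij : Function.Bijective f := by
    rw [Nat.bijective_iff_injective_and_card]
    refine ⟨hf, ?_⟩
    refine le_antisymm (Nat.card_le_card_of_injective f hf) ?_
    rw [hcard]
    exact Nat.le_of_dvd (by norm_num) hC
  obtain ⟨⟨u, v⟩, huv⟩ := hbij.2 ⟨x, hx⟩
  have hxe : (u : L) * v = x := congrArg Subtype.val huv
  have huvc : (u : L) * v = v * u := mem_centralizer_iff.1 (hle v.2) u u.2
  -- the order of `x` divides 4
  have hx4 : x ^ 4 = 1 := by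
    have h1 : x ^ (4 * 49) = 1 := by
      rw [← hxe, (show Commute (u : L) (v : L) from huvc).mul_pow, mul_comm 4 49, pow_mul, p49 _ u.2, one_pow, one_mul,
        mul_comm 49 4, pow_mul, p4 _ v.2, one_pow]
    have h2 : orderOf x ∣ 4 := by
      refine Nat.Coprime.dvd_of_dvd_mul_right ?_ (orderOf_dvd_of_pow_eq_one h1)
      rw [show 49 = 7 ^ 2 by norm_num]
      exact Nat.Coprime.pow_right 2 (Nat.coprime_comm.1 ((Nat.Prime.coprime_iff_not_dvd h7.out).2 hx7))
    exact orderOf_dvd_iff_pow_eq_one.1 h2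
  have hu1 : (u : L) = 1 := by
    refine hcop _ (p49 _ u.2) ?_
    have h1 : x ^ 4 = (u : L) ^ 4 * (v : L) ^ 4 := by
      rw [← hxe, (show Commute (u : L) (v : L) from huvc).mul_pow]
    rw [hx4, p4 _ v.2, mul_one] at h1
    exact h1.symm
  rw [← hxe, hu1, one_mul]
  exact v.2

/-- **membership in the principal block** -/
theorem mem_of_sum {M : Ideal AlgInt} (hM : IsPModular 7 M) (P : Sylow 7 L) (hP : Nat.card (P : Subgroup L) = 49)
    (hC : Nat.card ↥(centralizer ((P : Subgroup L) : Set L)) ∣ 4 * 49) (ha2 : a * a = 1) (hb2 : b * b = 1)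
    (hc : a * b = b * a)
    (ha : a ∈ centralizer ((P : Subgroup L) : Set L)) (hb : b ∈ centralizer ((P : Subgroup L) : Set L))
    (ha1 : a ≠ 1) (hb1 : b ≠ 1) (hab : a ≠ b) {χ : IrrCharacter L} (hd : ¬ 7 ∣ charDegree (χ : L → ℂ)) {s : ℤ}
    (hs : (χ : L → ℂ) 1 + (χ : L → ℂ) a + (χ : L → ℂ) b + (χ : L → ℂ) (a * b) = s) (hs7 : ¬ 7 ∣ s) :
    χ ∈ principalBlock M L := by
  classical
  have h7 : Fact (Nat.Prime 7) := ⟨by norm_num⟩
  have := Fintype.ofFinite L
  by_contra hno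
  have hO := op_four (ha2 := ha2) (hb2 := hb2) (hc := hc) hP hC ha hb ha1 hb1 hab
  obtain ⟨k, hk⟩ := dvd_aO hM P hO hno hd
  have h1 := aO_eq (four a b ha2 hb2 hc) (isIrr_isCharacter χ.2)
  rw [sum_four ha1 hb1 hab, hs, hk, card_four ha1 hb1 hab] at h1
  apply hs7
  refine ⟨4 * k, ?_⟩
  have h2 : ((s : ℤ) : ℂ) = ((7 * (4 * k) : ℤ) : ℂ) := by
    rw [h1]; push_cast; ring
  exact_mod_cast h2

end abs

/-! ### The model -/

noncomputable local instance instFintypeX : Fintype (X0 M) := Fintype.ofFinite _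

theorem isoM : Spor.IsoB ↥M.G := ⟨BM.KHAll.iso.symm⟩

theorem facM : (Nat.card ↥M.G).factorization 7 = 2 := by
  rw [BabyM.Instance.all.card_G]
  have h7 : Nat.Prime 7 := by norm_num
  rw [show (4154781481226426191177580544000000 : ℕ) = 7 ^ 2 * 84791458800539310024032256000000 by norm_num,
    Nat.factorization_mul (by norm_num) (by norm_num), Finsupp.add_apply, h7.factorization_pow, Finsupp.single_eq_same,
    Nat.factorization_eq_zero_of_not_dvd (by norm_num)]

theorem card_syl (P : Sylow 7 ↥M.G) : Nat.card (P : Subgroup ↥M.G) = 49 := by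
  have h7 : Fact (Nat.Prime 7) := ⟨by norm_num⟩
  rw [P.card_eq_multiplicity, facM]; norm_num

theorem ks (u : Fin 8) : ∑ w, t8 u w =
    (![1, 1, 3968055, 3968055, 2370830336, 2370830336, 46227456, 22348085760] : Fin 8 → ℕ) u := by
  revert u
  decide +kernel

theorem ks_ne (u : Fin 8) :
    (![1, 1, 3968055, 3968055, 2370830336, 2370830336, 46227456, 22348085760] : Fin 8 → ℕ) u ≠ 0 := by
  revert u
  decide

/-- two commuting transpositions which commute with `P` -/
theorem exists_config (P : Sylow 7 ↥M.G) : ∃ x y : X0 M, cc M x y = 6 ∧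
    tX x ∈ centralizer ((P : Subgroup ↥M.G) : Set ↥M.G) ∧ tX y ∈ centralizer ((P : Subgroup ↥M.G) : Set ↥M.G) := by
  have h7 : Fact (Nat.Prime 7) := ⟨by norm_num⟩
  have hPp : IsPGroup 7 (P : Subgroup ↥M.G) := P.isPGroup'
  have hX : Nat.card (X0 M) = 27143910000 := card_X0 BabyM.Instance.all
  obtain ⟨x, hx⟩ := hPp.nonempty_fixed_point_of_prime_not_dvd_card (X0 M) (by rw [hX]; norm_num)
  have hfix : ∀ u : (P : Subgroup ↥M.G), u • x = x := fun u => hx u
  let Y : SubMulAction (P : Subgroup ↥M.G) (X0 M) :=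
    { carrier := {y | cc M x y = 6}
      smul_mem' := by
        intro g y hy
        show cc M x ((g : ↥M.G) • y) = 6
        have h1 : cc M ((g : ↥M.G) • x) ((g : ↥M.G) • y) = cc M x y := isCol.inv _ _ _
        have h2 : (g : ↥M.G) • x = x := hfix g
        rw [h2] at h1
        rw [h1]
        exact hy }
  have hY : Nat.card Y = 46227456 := by
    have h1 := kk_eq8 x 6
    rw [ks] at h1
    exact h1
  obtain ⟨y, hy⟩ := hPp.nonempty_fixed_point_of_prime_not_dvd_card Y (by rw [hY]; norm_num)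
  have key : ∀ z : X0 M, (∀ u ∈ (P : Subgroup ↥M.G), u • z = z) →
      tX z ∈ centralizer ((P : Subgroup ↥M.G) : Set ↥M.G) := by
    intro z hz
    rw [mem_centralizer_iff]
    intro u hu
    have h1 := tX_smul u z
    rw [hz u hu] at h1
    calc u * tX z = u * tX z * u⁻¹ * u := by group
      _ = tX z * u := by rw [← h1]
  refine ⟨x, y, y.2, key x fun u hu => hfix ⟨u, hu⟩, key y fun u hu => ?_⟩
  have h1 : (⟨u, hu⟩ : (P : Subgroup ↥M.G)) • y = y := hy ⟨u, hu⟩
  exact congrArg Subtype.val h1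

theorem cc_symm (x y : X0 M) : cc M x y = cc M y x := isCol.symm x y

theorem tX_ne_one {x y : X0 M} (h : cc M x y = 6) : tX x ≠ 1 := by
  intro h0
  have h1 := cc_t x y
  rw [h0, one_smul, isCol.self, h] at h1
  exact absurd h1 (by decide)

theorem tX_ne {x y : X0 M} (h : cc M x y = 6) : tX x ≠ tX y := by
  intro h0
  have h1 := cc_t x y
  have h2 := cc_t y y
  rw [h0, h2, h, isCol.self] at h1
  exact absurd h1 (by decide)

theorem tX_comm {x y : X0 M} (h : cc M x y = 6) : tX x * tX y = tX y * tX x :=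
  comm_of' (Or.inr (Or.inr (by rw [h]; decide)))

/-- **The value on the product of two commuting transpositions modulo 7.** -/
theorem tt_mod {χ : ↥M.G → ℂ} (hχ : IsIrrCharacter ↥M.G χ) {n a b : ℤ} (hn : χ 1 = n) {x y : X0 M}
    (ha : χ (tX x) = a) (hn7 : ¬ 7 ∣ n) (hmod : 7 ∣ a - n) (hxy : cc M x y = 6) (hb : χ (tX x * tX y) = b) :
    7 ∣ b - n := by
  classical
  have := Fintype.ofFinite ↥M.G
  have h1 := H165.Vr.sum_act_irr htr tX_smul x hχ
  have hex : ∀ u : Fin 8, ∃ z : X0 M, cc M x z = u := by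
    intro u
    have h2 := kk_eq8 x u
    rw [ks] at h2
    have h4 : Nat.card {z // cc M x z = u} ≠ 0 := by
      rw [show Nat.card {z // cc M x z = u} = kk (cc M) x u from rfl, h2]
      exact ks_ne u
    obtain ⟨⟨z, hz⟩⟩ := (Nat.card_ne_zero.1 h4).1
    exact ⟨z, hz⟩
  choose z hz using hex
  have hcf : ∀ z' : X0 M, χ (tX z' * tX x) = χ (tX (z (cc M x z')) * tX x) := by
    intro z'
    obtain ⟨g, h2, h3⟩ := isCol.tr x z' x (z (cc M x z')) (by rw [hz])
    have h4 : tX (z (cc M x z')) * tX x = g * (tX z' * tX x) * g⁻¹ := by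
      rw [← h3, tX_smul]
      conv_lhs => rw [← h2, tX_smul]
      group
    rw [h4]
    exact (isIrr_isClassFunction hχ _ _).symm
  have h2 := H165.Vr.sum_colour (cc M x) (f := fun z' => χ (tX z' * tX x)) (w := fun u => χ (tX (z u) * tX x)) hcf
    (k := ![1, 1, 3968055, 3968055, 2370830336, 2370830336, 46227456, 22348085760]) (fun u => by
      rw [← ks u]; exact kk_eq8 x u)
  rw [h2] at h1
  have e0 : χ (tX (z 0) * tX x) = n := by
    have h3 : x = z 0 := (isCol.diag x (z 0)).1 (hz 0)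
    rw [← h3, tX_sq, hn]
  have e1 : χ (tX (z 1) * tX x) = n := by
    have h3 : tX x = tX (z 1) := tX_congr (pm_of_par (by rw [hz]; decide))
    rw [← h3, tX_sq, hn]
  have e6 : χ (tX (z 6) * tX x) = b := by
    have h3 := hcf y
    rw [hxy] at h3
    rw [← h3, ← tX_comm hxy, hb]
  simp only [Fin.sum_univ_eight] at h1
  simp only [e0, e1, e6, hn, ha] at h1
  have hint : ∀ g, IsIntegral ℤ (χ g) := fun g => GaloisBasic.isIntegral_apply (isIrr_isCharacter hχ) g
  obtain ⟨r, hr⟩ : ∃ r : ℂ, r = -((n : ℂ) * (566865 * (χ (tX (z 2) * tX x) + χ (tX (z 3) * tX x)) +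
    338690048 * (χ (tX (z 4) * tX x) + χ (tX (z 5) * tX x)) + 3192583680 * χ (tX (z 7) * tX x))) := ⟨_, rfl⟩
  have hri : IsIntegral ℤ r := by
    rw [hr]
    have c : ∀ m : ℤ, IsIntegral ℤ (m : ℂ) := fun m => isIntegral_algebraMap
    have c1 : IsIntegral ℤ (566865 : ℂ) := by exact_mod_cast c 566865
    have c2 : IsIntegral ℤ (338690048 : ℂ) := by exact_mod_cast c 338690048
    have c3 : IsIntegral ℤ (3192583680 : ℂ) := by exact_mod_cast c 3192583680
    exact (((c n).mul (((c1.mul ((hint _).add (hint _))).add (c2.mul ((hint _).add (hint _)))).add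
      (c3.mul (hint _))))).neg
  have h7r : 7 * r = ((n * (2 * n + 46227456 * b) - 27143910000 * a ^ 2 : ℤ) : ℂ) := by
    rw [cardX] at h1
    rw [hr]
    push_cast
    simp at h1
    linear_combination (-1 : ℂ) * h1
  obtain ⟨s, hs⟩ := GaloisBasic.exists_int_of_isIntegral hri ⟨((n * (2 * n + 46227456 * b) - 27143910000 * a ^ 2 : ℤ) : ℚ) / 7, by
    rw [Rat.cast_div, Rat.cast_intCast, ← h7r]
    push_cast
    ring⟩
  have h3 : n * (2 * n + 46227456 * b) - 27143910000 * a ^ 2 = 7 * s := by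
    have : ((n * (2 * n + 46227456 * b) - 27143910000 * a ^ 2 : ℤ) : ℂ) = ((7 * s : ℤ) : ℂ) := by
      rw [← h7r, hs]; push_cast; ring
    exact_mod_cast this
  obtain ⟨k, hk⟩ := hmod
  have hak : a = n + 7 * k := by linarith
  have h4 : 7 ∣ (2 * n) * (b - n) := by
    refine ⟨s - 6603922 * n * b + 3877701428 * n ^ 2 + 27143910000 * (2 * k * n + 7 * k ^ 2), ?_⟩
    rw [hak] at h3
    linear_combination h3
  have h7p : Prime (7 : ℤ) := by norm_num
  rcases h7p.dvd_or_dvd h4 with h | h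
  · rcases h7p.dvd_or_dvd h with h | h
    · norm_num at h
    · exact absurd h hn7
  · exact h

/-- **Members of the principal 7-block of the Baby Monster.** -/
theorem mem_of_mod {I : Ideal AlgInt} (hI : IsPModular 7 I) {χ : IrrCharacter ↥M.G} {n a : ℤ}
    (hn : (χ : ↥M.G → ℂ) 1 = n) (ha : ∀ x : X0 M, (χ : ↥M.G → ℂ) (tX x) = a) (hn7 : ¬ 7 ∣ n) (hmod : 7 ∣ a - n) :
    χ ∈ principalBlock I ↥M.G := by
  have h7 : Fact (Nat.Prime 7) := ⟨by norm_num⟩
  obtain ⟨P⟩ : Nonempty (Sylow 7 ↥M.G) := inferInstance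
  obtain ⟨x, y, hxy, hx, hy⟩ := exists_config P
  have hP := card_syl P
  have hyx : cc M y x = 6 := by rw [cc_symm]; exact hxy
  have htt : tX x * tX y * (tX x * tX y) = 1 := sq_of (Or.inr (Or.inr (by rw [hxy]; decide)))
  obtain ⟨b, hb⟩ := H165.Vr.int_of_sq (isIrr_isCharacter χ.2) htt
  have hbn := tt_mod χ.2 hn (ha x) hn7 hmod hxy hb
  have hd : ¬ 7 ∣ charDegree (χ : ↥M.G → ℂ) := by
    intro h
    apply hn7
    have h1 : n = (charDegree (χ : ↥M.G → ℂ) : ℤ) := by
      have h2 := Blocks.Basic.irr_one_eq_charDegree χ.2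
      rw [hn] at h2
      exact_mod_cast h2
    rw [h1]
    exact_mod_cast h
  refine mem_of_sum hI P hP (H436.B7.card_cent isoM hP) (tX_sq x) (tX_sq y) (tX_comm hxy) hx hy (tX_ne_one hxy)
    (tX_ne_one hyx) (tX_ne hxy) hd (s := n + a + a + b) (by rw [hn, ha, ha, hb]; push_cast; ring) ?_
  intro h
  apply hn7
  have h7p : Prime (7 : ℤ) := by norm_num
  have h4 : 7 ∣ 4 * n := by
    have h5 : 4 * n = (n + a + a + b) - 2 * (a - n) - (b - n) := by ring
    rw [h5]
    exact dvd_sub (dvd_sub h (Dvd.dvd.mul_left hmod 2)) hbn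
  rcases h7p.dvd_or_dvd h4 with h | h
  · norm_num at h
  · exact h

theorem mem_e2 {I : Ideal AlgInt} (hI : IsPModular 7 I) :
    (⟨ch e2, ch_irr datE2⟩ : IrrCharacter ↥M.G) ∈ principalBlock I ↥M.G :=
  mem_of_mod hI (n := 96255) (a := 4863) (by show ch e2 1 = _; rw [ch_one datE2]; norm_num)
    (fun x => by show ch e2 (tX x) = _; rw [t_e2]; norm_num) (by norm_num) (by norm_num)

theorem mem_al {I : Ideal AlgInt} (hI : IsPModular 7 I) :
    (⟨al2, irrAl⟩ : IrrCharacter ↥M.G) ∈ principalBlock I ↥M.G :=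
  mem_of_mod hI (n := 9550635) (a := 119339) (by show al2 1 = _; rw [al2_one]; norm_num)
    (fun x => by show al2 (tX x) = _; rw [al2_t]; norm_num) (by norm_num) (by norm_num)

/-- **The squares of the character of degree `4371`, with the members of the principal 7-block.** -/
theorem squares_mem {S : Type u} [Group S] (h : Spor.IsoB S) {I : Ideal AlgInt} (hI : IsPModular 7 I) :
    ∃ ψ χ₂ χ₃ α : IrrCharacter S,
    (ψ : S → ℂ) 1 = 4371 ∧ (χ₂ : S → ℂ) 1 = 96255 ∧ (χ₃ : S → ℂ) 1 = 9458750 ∧ (α : S → ℂ) 1 = 9550635 ∧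
    (∀ g, ∃ q : ℚ, (ψ : S → ℂ) g = q) ∧ (∀ g, ∃ q : ℚ, (χ₂ : S → ℂ) g = q) ∧ (∀ g, ∃ q : ℚ, (χ₃ : S → ℂ) g = q) ∧
    (∀ g, ((ψ : S → ℂ) g ^ 2 + (ψ : S → ℂ) (g * g)) / 2 = 1 + (χ₂ : S → ℂ) g + (χ₃ : S → ℂ) g) ∧
    (∀ g, ((ψ : S → ℂ) g ^ 2 - (ψ : S → ℂ) (g * g)) / 2 = (α : S → ℂ) g) ∧
    χ₂ ∈ principalBlock I S ∧ α ∈ principalBlock I S := by
  obtain ⟨f⟩ : Nonempty (S ≃* ↥M.G) := by
    obtain ⟨e⟩ := h
    exact ⟨e.trans Cfsg.Agent.BM.KHAll.iso⟩
  have hfin : Finite S := Finite.of_equiv _ f.symm.toEquiv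
  have m2 := H493.RatB.mem_principalBlock_comp f (mem_e2 hI)
  have ma := H493.RatB.mem_principalBlock_comp f (mem_al hI)
  refine ⟨⟨_, isIrr_comp (f : S →* ↥M.G) f.surjective (ch_irr dat0)⟩,
    ⟨_, isIrr_comp (f : S →* ↥M.G) f.surjective (ch_irr datE2)⟩,
    ⟨_, isIrr_comp (f : S →* ↥M.G) f.surjective (ch_irr datE3)⟩,
    ⟨_, isIrr_comp (f : S →* ↥M.G) f.surjective irrAl⟩, ?_, ?_, ?_, ?_, ?_, ?_,
    ?_, ?_, ?_, m2, ma⟩
  · show ch v0 (f 1) = _
    rw [map_one, ch_one dat0]; norm_num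
  · show ch e2 (f 1) = _
    rw [map_one, ch_one datE2]; norm_num
  · show ch e3 (f 1) = _
    rw [map_one, ch_one datE3]; norm_num
  · show al2 (f 1) = _
    rw [map_one, al2_one]
  · exact fun g => ⟨_, ch_eq dat0 (f g)⟩
  · exact fun g => ⟨_, ch_eq datE2 (f g)⟩
  · exact fun g => ⟨_, ch_eq datE3 (f g)⟩
  · intro g
    show (ch v0 (f g) ^ 2 + ch v0 (f (g * g))) / 2 = 1 + ch e2 (f g) + ch e3 (f g)
    rw [map_mul]
    exact sym2 (f g)
  · intro g
    show (ch v0 (f g) ^ 2 - ch v0 (f (g * g))) / 2 = al2 (f g)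
    rw [map_mul]
    rfl

end Cfsg.Agent.H160.BL
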